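import Groth.Agent.DerivedAdj.Devissage
import Groth.Agent.Calg8.ExtEffaceable
import Mathlib.Algebra.Homology.DerivedCategory.Ext.Map
import Mathlib.Algebra.Homology.DerivedCategory.Ext.ExactSequences
import Mathlib.CategoryTheory.Triangulated.Yoneda

/-!
An exact fully faithful functor of abelian categories, along which extension classes can be effaced,
is fully faithful on bounded objects of the derived categories, and its image consists of the bounded
objects with cohomology in its essential image.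
-/

set_option autoImplicit false

universe v₁ v₂ u₁ u₂

open CategoryTheory CategoryTheory.Limits CategoryTheory.Pretriangulated DerivedCategory
open CategoryTheory.Abelian (Ext)
open scoped ZeroObject

attribute [local instance] HasDerivedCategory.standard

namespace Groth.CohDbEquiv

variable {B : Type u₁} [Category.{v₁} B] [Abelian B] {A : Type u₂} [Category.{v₂} A] [Abelian A]
  (F : B ⥤ A) [F.Additive] [PreservesFiniteLimits F] [PreservesFiniteColimits F]

/-- extension classes between objects of the subcategory are effaced within the subcategory -/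
def Effaces : Prop :=
  letI := HasExt.standard A
  ∀ (M N : B) (n : ℕ) (x : Ext (F.obj M) (F.obj N) (n + 1)),
    ∃ (M' : B) (q : M' ⟶ M), Epi q ∧ (Ext.mk₀ (F.map q)).comp x (zero_add _) = 0

section Ext

variable [F.Full] [F.Faithful]

/-- the map on `Ext` is bijective -/
theorem bijective_mapExt (h : Effaces F) (n : ℕ) :
    letI := HasExt.standard A; letI := HasExt.standard B
    ∀ M N : B, Function.Bijective (F.mapExtAddHom M N n) := by
  letI := HasExt.standard A; letI := HasExt.standard B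
  induction n with
  | zero =>
    intro M N
    refine ⟨(injective_iff_map_eq_zero _).2 fun x hx => ?_, fun y => ?_⟩
    · obtain ⟨φ, rfl⟩ := (Ext.mk₀_bijective _ _).2 x
      rw [Functor.mapExtAddHom_apply, Ext.mapExactFunctor_mk₀, ← Ext.mk₀_zero] at hx
      rw [F.map_injective (((Ext.mk₀_bijective _ _).1 hx).trans (F.map_zero M N).symm), Ext.mk₀_zero]
    · obtain ⟨ψ, rfl⟩ := (Ext.mk₀_bijective _ _).2 y
      obtain ⟨φ, rfl⟩ := F.map_surjective ψ
      exact ⟨Ext.mk₀ φ, by rw [Functor.mapExtAddHom_apply, Ext.mapExactFunctor_mk₀]⟩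
  | succ n ih =>
    intro M N
    refine ⟨(injective_iff_map_eq_zero _).2 fun x hx => ?_, fun ξ => ?_⟩
    · obtain ⟨M', π, hπ, hx'⟩ := Groth.Calg8.ExtEff.exists_epi_comp_eq_zero (by omega) x
      let S := ShortComplex.mk (kernel.ι π) π (kernel.condition π)
      have hS : S.ShortExact := ⟨S.exact_of_f_is_kernel (kernelIsKernel π)⟩
      obtain ⟨y, hy⟩ := Ext.contravariant_sequence_exact₃ hS N x hx' (add_comm 1 n)
      subst hy
      rw [Functor.mapExtAddHom_apply, Ext.mapExactFunctor_comp, Ext.mapExactFunctor_extClass] at hx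
      obtain ⟨z, hz⟩ := Ext.contravariant_sequence_exact₁ (hS.map_of_exact F) (F.obj N) _ (add_comm 1 n) hx
      obtain ⟨z', rfl⟩ := (ih S.X₂ N).2 z
      have hy' : (Ext.mk₀ S.f).comp z' (zero_add n) = y := by
        refine (ih S.X₁ N).1 ?_
        rw [Functor.mapExtAddHom_apply, Ext.mapExactFunctor_comp, Ext.mapExactFunctor_mk₀]
        exact hz
      rw [← hy']
      exact hS.extClass_comp_assoc _
    · obtain ⟨M', q, hq, hξ⟩ := h M N n ξ
      let S := ShortComplex.mk (kernel.ι q) q (kernel.condition q)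
      have hS : S.ShortExact := ⟨S.exact_of_f_is_kernel (kernelIsKernel q)⟩
      obtain ⟨η, hη⟩ := Ext.contravariant_sequence_exact₃ (hS.map_of_exact F) (F.obj N) ξ hξ (add_comm 1 n)
      obtain ⟨y, rfl⟩ := (ih S.X₁ N).2 η
      refine ⟨hS.extClass.comp y (add_comm 1 n), ?_⟩
      rw [Functor.mapExtAddHom_apply, Ext.mapExactFunctor_comp, Ext.mapExactFunctor_extClass]
      exact hη

end Ext

local notation "Fd" => F.mapDerivedCategory

/-- `Fd` is bijective on morphisms `X ⟶ Y` -/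
def Bij (X Y : DerivedCategory B) : Prop :=
  Function.Bijective ((Fd).map : (X ⟶ Y) → _)

variable {F}

lemma bij_of_iso {X X' Y Y' : DerivedCategory B} (e : X ≅ X') (e' : Y ≅ Y') (h : Bij F X Y) :
    Bij F X' Y' := by
  have : ((Fd).map : (X' ⟶ Y') → _) =
      Iso.homCongr ((Fd).mapIso e) ((Fd).mapIso e') ∘ (Fd).map ∘ (Iso.homCongr e e').symm := by
    funext f
    simp [Iso.homCongr, ← Functor.map_comp]
  unfold Bij
  rw [this]
  exact ((Equiv.bijective _).comp h).comp (Equiv.bijective _)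

lemma bij_shift {X Y : DerivedCategory B} (m : ℤ) (h : Bij F X Y) :
    Bij F (X⟦m⟧) (Y⟦m⟧) := by
  have : ((Fd).map : (X⟦m⟧ ⟶ Y⟦m⟧) → _) ∘ (fun f : X ⟶ Y => f⟦m⟧') =
      Iso.homCongr (((Fd).commShiftIso m).app X).symm (((Fd).commShiftIso m).app Y).symm ∘
        (fun g => g⟦m⟧') ∘ (Fd).map := by
    funext f
    simp [Iso.homCongr]
  refine (Function.Bijective.of_comp_iff _ ((Functor.FullyFaithful.ofFullyFaithful (shiftFunctor (DerivedCategory B) m)).map_bijective X Y)).1 ?_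
  rw [this]
  exact (Equiv.bijective _).comp (((Functor.FullyFaithful.ofFullyFaithful (shiftFunctor (DerivedCategory A) m)).map_bijective _ _).comp h)

lemma bij_shift_left {X Y : DerivedCategory B} (m m' : ℤ) (hm : m + m' = 0) (h : Bij F X (Y⟦m'⟧)) :
    Bij F (X⟦m⟧) Y :=
  bij_of_iso (Iso.refl _) ((shiftFunctorCompIsoId (DerivedCategory B) m' m (by omega)).app Y)
    (bij_shift m h)

lemma bij_shift_right {X Y : DerivedCategory B} (m m' : ℤ) (hm : m + m' = 0) (h : Bij F (X⟦m⟧) Y) :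
    Bij F X (Y⟦m'⟧) :=
  bij_of_iso ((shiftFunctorCompIsoId (DerivedCategory B) m m' hm).app X) (Iso.refl _)
    (bij_shift m' h)

lemma bij_of_isZero_left {X Y : DerivedCategory B} (hX : IsZero X) : Bij F X Y :=
  ⟨fun _ _ _ => hX.eq_of_src _ _, fun _ => ⟨0, ((Fd).map_isZero hX).eq_of_src _ _⟩⟩

lemma bij_of_isZero_right {X Y : DerivedCategory B} (hY : IsZero Y) : Bij F X Y :=
  ⟨fun _ _ _ => hY.eq_of_tgt _ _, fun _ => ⟨0, ((Fd).map_isZero hY).eq_of_tgt _ _⟩⟩

/-- five lemma, first variable -/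
lemma bij_obj₂_left (T : Triangle (DerivedCategory B)) (hT : T ∈ distTriang _) (Y : DerivedCategory B)
    (h1 : Bij F T.obj₁ Y) (h1' : Bij F (T.obj₁⟦(1 : ℤ)⟧) Y) (h3 : Bij F T.obj₃ Y)
    (h3' : Bij F (T.obj₃⟦(-1 : ℤ)⟧) Y) : Bij F T.obj₂ Y := by
  constructor
  · refine (injective_iff_map_eq_zero ((Fd).mapAddHom (X := T.obj₂) (Y := Y))).2 fun f hf => ?_
    replace hf : (Fd).map f = 0 := hf
    obtain ⟨g, rfl⟩ := Triangle.yoneda_exact₂ T hT f (h1.1 (by simp [hf]))
    have hg : (Fd).map T.mor₂ ≫ (Fd).map g = 0 := by rw [← Functor.map_comp, hf]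
    obtain ⟨k', hk⟩ : ∃ k', (Fd).map g = (Fd).map T.mor₃ ≫ k' :=
      Triangle.yoneda_exact₂ _ ((Fd).map_distinguished _ (rot_of_distTriang _ hT)) _ hg
    obtain ⟨k, rfl⟩ := h1'.2 k'
    have : g = T.mor₃ ≫ k := h3.1 (by rw [hk, Functor.map_comp])
    rw [this, comp_distTriang_mor_zero₂₃_assoc T hT, zero_comp]
  · intro f'
    obtain ⟨a, ha⟩ := h1.2 ((Fd).map T.mor₁ ≫ f')
    have hT' := inv_rot_of_distTriang _ hT
    let ε : T.obj₃⟦(-1 : ℤ)⟧ ⟶ T.obj₁ := T.invRotate.mor₁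
    have hε : ε ≫ T.mor₁ = 0 := comp_distTriang_mor_zero₁₂ _ hT'
    have h0 : ε ≫ a = 0 := h3'.1 (by
      rw [Functor.map_comp, ha, ← Category.assoc, ← Functor.map_comp, hε, Functor.map_zero, zero_comp,
        Functor.map_zero])
    obtain ⟨b, hb⟩ : ∃ b : T.obj₂ ⟶ Y, a = T.mor₁ ≫ b := Triangle.yoneda_exact₂ _ hT' a h0
    obtain ⟨g', hg'⟩ := Triangle.yoneda_exact₂ _ ((Fd).map_distinguished _ hT) (f' - (Fd).map b) (by
      show (Fd).map T.mor₁ ≫ (f' - (Fd).map b) = 0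
      rw [Preadditive.comp_sub, ← Functor.map_comp, ← hb, ha, sub_self])
    obtain ⟨g, rfl⟩ := h3.2 g'
    refine ⟨b + T.mor₂ ≫ g, ?_⟩
    rw [Functor.map_add, Functor.map_comp]
    exact (sub_eq_iff_eq_add'.1 hg').symm

/-- five lemma, second variable -/
lemma bij_obj₂_right (T : Triangle (DerivedCategory B)) (hT : T ∈ distTriang _) (X : DerivedCategory B)
    (h1 : Bij F X T.obj₁) (h1' : Bij F X (T.obj₁⟦(1 : ℤ)⟧)) (h3 : Bij F X T.obj₃)
    (h3' : Bij F X (T.obj₃⟦(-1 : ℤ)⟧)) : Bij F X T.obj₂ := by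
  constructor
  · refine (injective_iff_map_eq_zero ((Fd).mapAddHom (X := X) (Y := T.obj₂))).2 fun f hf => ?_
    replace hf : (Fd).map f = 0 := hf
    obtain ⟨g, rfl⟩ := Triangle.coyoneda_exact₂ T hT f (h3.1 (by simp [hf]))
    have hT' := inv_rot_of_distTriang _ hT
    let ε : T.obj₃⟦(-1 : ℤ)⟧ ⟶ T.obj₁ := T.invRotate.mor₁
    have hε : ε ≫ T.mor₁ = 0 := comp_distTriang_mor_zero₁₂ _ hT'
    obtain ⟨k', hk⟩ : ∃ k', (Fd).map g = k' ≫ (Fd).map ε :=
      Triangle.coyoneda_exact₂ _ ((Fd).map_distinguished _ hT') ((Fd).map g) (by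
        show (Fd).map g ≫ (Fd).map T.mor₁ = 0
        rw [← Functor.map_comp, hf])
    obtain ⟨k, rfl⟩ := h3'.2 k'
    have : g = k ≫ ε := h1.1 (by rw [hk, Functor.map_comp])
    rw [this, Category.assoc, hε, comp_zero]
  · intro f'
    obtain ⟨a, ha⟩ := h3.2 (f' ≫ (Fd).map T.mor₂)
    have h0 : a ≫ T.mor₃ = 0 := h1'.1 (by
      rw [Functor.map_comp, ha, Category.assoc, ← Functor.map_comp, comp_distTriang_mor_zero₂₃ T hT,
        Functor.map_zero, comp_zero, Functor.map_zero])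
    obtain ⟨b, hb⟩ : ∃ b : X ⟶ T.obj₂, a = b ≫ T.mor₂ :=
      Triangle.coyoneda_exact₂ _ (rot_of_distTriang _ hT) a h0
    obtain ⟨g', hg'⟩ := Triangle.coyoneda_exact₂ _ ((Fd).map_distinguished _ hT) (f' - (Fd).map b) (by
      show (f' - (Fd).map b) ≫ (Fd).map T.mor₂ = 0
      rw [Preadditive.sub_comp, ← Functor.map_comp, ← hb, ha, sub_self])
    obtain ⟨g, rfl⟩ := h1.2 g'
    refine ⟨b + g ≫ T.mor₁, ?_⟩
    rw [Functor.map_add, Functor.map_comp]
    exact (sub_eq_iff_eq_add'.1 hg').symm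

variable [F.Full] [F.Faithful]

/-- objects in degree zero -/
lemma bij_single (h : Effaces F) (M N : B) (m : ℤ) :
    Bij F ((singleFunctor B 0).obj M) (((singleFunctor B 0).obj N)⟦m⟧) := by
  rcases lt_or_ge m 0 with hm | hm
  · have hge : (((singleFunctor B 0).obj N)⟦m⟧).IsGE (-m) :=
      (TStructure.t : Triangulated.TStructure (DerivedCategory B)).isGE_shift _ 0 m (-m) (by omega)
    haveI := Groth.DerivedAdj.leftExact_mapDerivedCategory F _ _ hge
    haveI := Groth.DerivedAdj.isLE_mapDerivedCategory F ((singleFunctor B 0).obj M) 0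
    exact ⟨fun f g _ => sub_eq_zero.1
        ((TStructure.t : Triangulated.TStructure (DerivedCategory B)).zero (f - g) 0 (-m) (by omega)),
      fun f' => ⟨0, by
        rw [(TStructure.t : Triangulated.TStructure (DerivedCategory A)).zero f' 0 (-m) (by omega),
          Functor.map_zero]⟩⟩
  · obtain ⟨n, rfl⟩ := Int.eq_ofNat_of_zero_le hm
    letI := HasExt.standard A; letI := HasExt.standard B
    let e := F.mapDerivedCategorySingleFunctor 0
    let c : ((Fd).obj ((singleFunctor B 0).obj M) ⟶ (Fd).obj (((singleFunctor B 0).obj N)⟦(n : ℤ)⟧)) ≃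
        ShiftedHom ((singleFunctor A 0).obj (F.obj M)) ((singleFunctor A 0).obj (F.obj N)) (n : ℤ) :=
      Iso.homCongr (e.app M) (((Fd).commShiftIso (n : ℤ)).app _ ≪≫
        (shiftFunctor (DerivedCategory A) (n : ℤ)).mapIso (e.app N))
    have hc : Ext.homEquiv ∘ F.mapExtAddHom M N n = c ∘ (Fd).map ∘ Ext.homEquiv := by
      funext x
      show (x.mapExactFunctor F).hom = c ((Fd).map x.hom)
      rw [Ext.mapExactFunctor_hom]
      simp [c, e, Iso.homCongr, ShiftedHom.map]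
    have h2 : Function.Bijective (c ∘ (Fd).map ∘ (Ext.homEquiv (X := M) (Y := N) (n := n))) :=
      hc ▸ (Equiv.bijective _).comp (bijective_mapExt F h n M N)
    exact (Function.Bijective.of_comp_iff _ (Equiv.bijective _)).1
      ((Function.Bijective.of_comp_iff' (Equiv.bijective c) _).1 h2)

lemma bij_bounded_single (h : Effaces F) (X : DerivedCategory B) (a b : ℤ) [X.IsGE a] [X.IsLE b]
    (N : B) (m : ℤ) : Bij F (X⟦m⟧) ((singleFunctor B 0).obj N) := by
  revert m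
  refine Groth.DerivedAdj.devissage (⊤ : ObjectProperty B)
    (fun Z => ∀ m : ℤ, Bij F (Z⟦m⟧) ((singleFunctor B 0).obj N))
    (fun e hZ m => bij_of_iso ((shiftFunctor (DerivedCategory B) m).mapIso e) (Iso.refl _) (hZ m))
    (fun Z hZ m => bij_of_isZero_left ((shiftFunctor (DerivedCategory B) m).map_isZero hZ))
    (fun T hT h1 h3 m => ?_) (fun M _ n m => ?_) X a b (fun _ => trivial) (fun _ _ => trivial)
  · let T' := (Triangle.shiftFunctor (DerivedCategory B) m).obj T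
    exact bij_obj₂_left T' (Triangle.shift_distinguished _ hT m) _ (h1 m)
      (bij_of_iso ((shiftFunctorAdd' (DerivedCategory B) m 1 (m + 1) rfl).app T.obj₁) (Iso.refl _) (h1 (m + 1)))
      (h3 m)
      (bij_of_iso ((shiftFunctorAdd' (DerivedCategory B) m (-1) (m + -1) rfl).app T.obj₃) (Iso.refl _) (h3 (m + -1)))
  · exact bij_of_iso (((shiftFunctorAdd' (DerivedCategory B) (-n) m (m - n) (by omega)).app _) ≪≫
      (shiftFunctor (DerivedCategory B) m).mapIso (((singleFunctors B).shiftIso (-n) n 0 (by omega)).app M))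
      (Iso.refl _) (bij_shift_left (m - n) (n - m) (by omega) (bij_single h M N (n - m)))

/-- **fully faithful on bounded objects** -/
theorem bij_bounded (h : Effaces F) (X Y : DerivedCategory B) (a b a' b' : ℤ) [X.IsGE a] [X.IsLE b]
    [Y.IsGE a'] [Y.IsLE b'] : Bij F X Y := by
  suffices ∀ m : ℤ, Bij F X (Y⟦m⟧) from
    bij_of_iso (Iso.refl _) ((shiftFunctorZero (DerivedCategory B) ℤ).app Y) (this 0)
  refine Groth.DerivedAdj.devissage (⊤ : ObjectProperty B) (fun Z => ∀ m : ℤ, Bij F X (Z⟦m⟧))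
    (fun e hZ m => bij_of_iso (Iso.refl _) ((shiftFunctor (DerivedCategory B) m).mapIso e) (hZ m))
    (fun Z hZ m => bij_of_isZero_right ((shiftFunctor (DerivedCategory B) m).map_isZero hZ))
    (fun T hT h1 h3 m => ?_) (fun N _ n m => ?_) Y a' b' (fun _ => trivial) (fun _ _ => trivial)
  · let T' := (Triangle.shiftFunctor (DerivedCategory B) m).obj T
    exact bij_obj₂_right T' (Triangle.shift_distinguished _ hT m) _ (h1 m)
      (bij_of_iso (Iso.refl _) ((shiftFunctorAdd' (DerivedCategory B) m 1 (m + 1) rfl).app T.obj₁) (h1 (m + 1)))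
      (h3 m)
      (bij_of_iso (Iso.refl _) ((shiftFunctorAdd' (DerivedCategory B) m (-1) (m + -1) rfl).app T.obj₃) (h3 (m + -1)))
  · exact bij_of_iso (Iso.refl _) (((shiftFunctorAdd' (DerivedCategory B) (-n) m (m - n) (by omega)).app _) ≪≫
      (shiftFunctor (DerivedCategory B) m).mapIso (((singleFunctors B).shiftIso (-n) n 0 (by omega)).app N))
      (bij_shift_right (n - m) (m - n) (by omega) (bij_bounded_single h X a b N (n - m)))

/-- bounds are reflected -/
lemma bounds_of_iso {M : DerivedCategory B} {K : DerivedCategory A} (e : (Fd).obj M ≅ K) (a b : ℤ)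
    [K.IsGE a] [K.IsLE b] : M.IsGE a ∧ M.IsLE b := by
  have h : ∀ i, IsZero ((homologyFunctor A i).obj K) → IsZero ((homologyFunctor B i).obj M) := fun i hi => by
    have hF : IsZero (F.obj ((homologyFunctor B i).obj M)) := hi.of_iso
      ((Groth.DerivedAdj.homologyMapDerivedIso F M i).symm ≪≫ (homologyFunctor A i).mapIso e)
    rw [IsZero.iff_id_eq_zero] at hF ⊢
    exact F.map_injective (by rw [CategoryTheory.Functor.map_id, hF, Functor.map_zero])
  exact ⟨(isGE_iff M a).2 fun i hi => h i (isZero_of_isGE K a i hi),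
    (isLE_iff M b).2 fun i hi => h i (isZero_of_isLE K b i hi)⟩

/-- **bounded objects with cohomology in the essential image** -/
theorem exists_preimage (h : Effaces F) (K : DerivedCategory A) (a b : ℤ) [hge : K.IsGE a] [hle : K.IsLE b]
    (hK : ∀ i, F.essImage ((homologyFunctor A i).obj K)) :
    ∃ M : DerivedCategory B, M.IsGE a ∧ M.IsLE b ∧ Nonempty ((Fd).obj M ≅ K) := by
  suffices key : ∃ (M : DerivedCategory B) (a b : ℤ), M.IsGE a ∧ M.IsLE b ∧ Nonempty ((Fd).obj M ≅ K) by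
    obtain ⟨M, -, -, -, -, ⟨e⟩⟩ := key
    obtain ⟨h₁, h₂⟩ := bounds_of_iso e a b
    exact ⟨M, h₁, h₂, ⟨e⟩⟩
  refine Groth.DerivedAdj.devissage F.essImage
    (fun Z => ∃ (M : DerivedCategory B) (a b : ℤ), M.IsGE a ∧ M.IsLE b ∧ Nonempty ((Fd).obj M ≅ Z))
    (fun e ⟨M, a, b, h1, h2, ⟨e'⟩⟩ => ⟨M, a, b, h1, h2, ⟨e' ≪≫ e⟩⟩)
    (fun Z hZ => ⟨(singleFunctor B 0).obj (0 : B), 0, 0, inferInstance, inferInstance,
      ⟨((Fd).map_isZero ((singleFunctor B 0).map_isZero (isZero_zero B))).iso hZ⟩⟩)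
    (fun T hT h1 h3 => ?_) (fun Z hZ n => ?_) K a b hK
    (fun Z hZ => ⟨0, ⟨(F.map_isZero (isZero_zero B)).iso hZ⟩⟩)
  · obtain ⟨M₁, a₁, b₁, g₁, l₁, ⟨e₁⟩⟩ := h1
    obtain ⟨M₃, a₃, b₃, g₃, l₃, ⟨e₃⟩⟩ := h3
    let t := (TStructure.t : Triangulated.TStructure (DerivedCategory B))
    haveI : (M₁⟦(1 : ℤ)⟧).IsGE (a₁ - 1) := t.isGE_shift M₁ a₁ 1 (a₁ - 1) (by omega)
    haveI : (M₁⟦(1 : ℤ)⟧).IsLE (b₁ - 1) := t.isLE_shift M₁ b₁ 1 (b₁ - 1) (by omega)
    let e₁' : (Fd).obj (M₁⟦(1 : ℤ)⟧) ≅ T.obj₁⟦(1 : ℤ)⟧ :=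
      ((Fd).commShiftIso (1 : ℤ)).app M₁ ≪≫ (shiftFunctor (DerivedCategory A) (1 : ℤ)).mapIso e₁
    obtain ⟨φ, hφ⟩ := (bij_bounded h M₃ (M₁⟦(1 : ℤ)⟧) a₃ b₃ (a₁ - 1) (b₁ - 1)).2
      (e₃.hom ≫ T.mor₃ ≫ e₁'.inv)
    obtain ⟨M₂, f, g, hM⟩ := distinguished_cocone_triangle₂ φ
    let S := (Fd).mapTriangle.obj (Triangle.mk f g φ)
    have hS : S ∈ distTriang _ := (Fd).map_distinguished _ hM
    have hw : S.mor₃ ≫ e₁.hom⟦(1 : ℤ)⟧' = e₃.hom ≫ T.mor₃ := by
      show ((Fd).map φ ≫ ((Fd).commShiftIso (1 : ℤ)).hom.app M₁) ≫ _ = _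
      rw [hφ]
      simp [e₁']
      erw [← Functor.map_comp, e₁.inv_hom_id, CategoryTheory.Functor.map_id, Category.comp_id]
    let Φ : S ⟶ T :=
      { hom₁ := e₁.hom
        hom₂ := (complete_distinguished_triangle_morphism₂ S T hS hT e₁.hom e₃.hom hw).choose
        hom₃ := e₃.hom
        comm₁ := (complete_distinguished_triangle_morphism₂ S T hS hT e₁.hom e₃.hom hw).choose_spec.1
        comm₂ := (complete_distinguished_triangle_morphism₂ S T hS hT e₁.hom e₃.hom hw).choose_spec.2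
        comm₃ := hw }
    have hi : IsIso Φ.hom₂ := isIso₂_of_isIso₁₃ Φ hS hT (inferInstanceAs (IsIso e₁.hom)) (inferInstanceAs (IsIso e₃.hom))
    have q₁ : M₁.IsGE (min a₁ a₃) := t.isGE_of_ge M₁ _ a₁ (min_le_left _ _)
    have q₃ : M₃.IsGE (min a₁ a₃) := t.isGE_of_ge M₃ _ a₃ (min_le_right _ _)
    have r₁ : M₁.IsLE (max b₁ b₃) := t.isLE_of_le M₁ b₁ _ (le_max_left _ _)
    have r₃ : M₃.IsLE (max b₁ b₃) := t.isLE_of_le M₃ b₃ _ (le_max_right _ _)
    exact ⟨M₂, min a₁ a₃, max b₁ b₃, t.isGE₂ _ hM _ q₁ q₃,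
      t.isLE₂ _ hM _ r₁ r₃, ⟨@asIso _ _ _ _ Φ.hom₂ hi⟩⟩
  · obtain ⟨N, ⟨e⟩⟩ := hZ
    exact ⟨(singleFunctor B n).obj N, n, n, inferInstance, inferInstance,
      ⟨(F.mapDerivedCategorySingleFunctor n).app N ≪≫ (singleFunctor A n).mapIso e⟩⟩

end Groth.CohDbEquiv
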