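import Groth.Agent.CohDbEquiv.Generic
import Groth.Agent.CohExtendCx.Lift
import Groth.Agent.CohTwo.QCohInjective
import Groth.Agent.SheafExt.Coherent
import Groth.Agent.KTheory.Perf
import Mathlib.Algebra.Homology.DerivedCategory.Ext.EnoughInjectives

/-!
Extension classes out of coherent modules are effaced by epimorphisms from coherent modules.
-/

set_option autoImplicit false

universe u

open CategoryTheory CategoryTheory.Limits AlgebraicGeometry
open CategoryTheory.Abelian (Ext)

attribute [local instance] HasDerivedCategory.standard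

namespace Groth.CohDbEquiv

variable {X : Scheme.{u}} [IsNoetherian X]

/-- a coherent quotient of a quasi-coherent module is a quotient of a coherent one -/
theorem exists_coh_epi {P M : X.Modules} [P.IsQuasicoherent] (hM : Coh.IsCoh M) (p : P ⟶ M) [Epi p] :
    ∃ (G : X.Modules) (g : G ⟶ P), Coh.IsCoh G ∧ Epi (g ≫ p) := by
  haveI : M.IsQuasicoherent := hM.1
  let R := Scheme.Modules.restrictFunctor (⊤ : X.Opens).ι
  haveI : Epi (R.map p) := inferInstance
  obtain ⟨G, g, hG, he⟩ := Groth.CohExtendCx.exists_coh_lift ⊤ p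
    (Groth.SheafExt.isCoh_restrictFunctor _ hM)
  refine ⟨G, g, hG, Preadditive.epi_of_isZero_cokernel _ (Groth.KTheory.Perf.isZero_of_local fun x => ?_)⟩
  haveI := he
  exact ⟨⊤, trivial, (isZero_cokernel_of_epi (R.map (g ≫ p))).of_iso (PreservesCokernel.iso R _)⟩

/-- effacement -/
theorem exists_kill (n : ℕ) :
    letI := HasExt.standard X.Modules
    ∀ (M N : X.Modules), Coh.IsCoh M → N.IsQuasicoherent → ∀ x : Ext M N (n + 1),
      ∃ (G : X.Modules) (q : G ⟶ M), Coh.IsCoh G ∧ Epi q ∧ (Ext.mk₀ q).comp x (zero_add _) = 0 := by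
  letI := HasExt.standard X.Modules
  induction n with
  | zero =>
    intro M N hM hN x
    haveI : M.IsQuasicoherent := hM.1
    haveI := hN
    obtain ⟨Q, β, hβ, hQ, hQi⟩ := Groth.CohTwo.QCohInj.exists_mono_qcoh_injective N
    let S := ShortComplex.mk β (cokernel.π β) (cokernel.condition β)
    have hS : S.ShortExact := ⟨S.exact_of_g_is_cokernel (cokernelIsCokernel β)⟩
    obtain ⟨y, rfl⟩ := Ext.covariant_sequence_exact₁ M hS x (Ext.eq_zero_of_injective _) (zero_add 1)
    obtain ⟨f, rfl⟩ := (Ext.mk₀_bijective _ _).2 y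
    haveI : (cokernel β).IsQuasicoherent := inferInstance
    haveI : (pullback f (cokernel.π β)).IsQuasicoherent := inferInstance
    obtain ⟨G, g, hG, hq⟩ := exists_coh_epi hM (pullback.fst f (cokernel.π β))
    refine ⟨G, _, hG, hq, ?_⟩
    rw [Ext.mk₀_comp_mk₀_assoc, Category.assoc, pullback.condition, ← Category.assoc,
      ← Ext.mk₀_comp_mk₀_assoc, hS.comp_extClass, Ext.comp_zero]
  | succ n ih =>
    intro M N hM hN x
    haveI := hN
    obtain ⟨Q, β, hβ, hQ, hQi⟩ := Groth.CohTwo.QCohInj.exists_mono_qcoh_injective N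
    let S := ShortComplex.mk β (cokernel.π β) (cokernel.condition β)
    have hS : S.ShortExact := ⟨S.exact_of_g_is_cokernel (cokernelIsCokernel β)⟩
    obtain ⟨y, rfl⟩ := Ext.covariant_sequence_exact₁ M hS x (Ext.eq_zero_of_injective _) rfl
    obtain ⟨G, q, hG, hq, hy⟩ := ih M S.X₃ hM inferInstance y
    exact ⟨G, q, hG, hq, by rw [← Ext.comp_assoc (Ext.mk₀ q) y hS.extClass (zero_add _) rfl (by omega), hy,
      Ext.zero_comp]⟩

variable [ObjectProperty.ContainsZero (fun M : X.Modules => Coh.IsCoh M)]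
  [ObjectProperty.IsClosedUnderKernels (fun M : X.Modules => Coh.IsCoh M)]
  [ObjectProperty.IsClosedUnderCokernels (fun M : X.Modules => Coh.IsCoh M)]
  [ObjectProperty.IsClosedUnderFiniteProducts (fun M : X.Modules => Coh.IsCoh M)]
  [PreservesFiniteLimits (ObjectProperty.ι (fun M : X.Modules => Coh.IsCoh M))]
  [PreservesFiniteColimits (ObjectProperty.ι (fun M : X.Modules => Coh.IsCoh M))]

/-- coherent modules efface extension classes -/
theorem effaces_coh : Effaces (ObjectProperty.ι (fun M : X.Modules => Coh.IsCoh M)) := by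
  intro M N n x
  letI := HasExt.standard X.Modules
  obtain ⟨G, q, hG, hq, hx⟩ := exists_kill n M.obj N.obj M.property N.property.1 x
  exact ⟨⟨G, hG⟩, ObjectProperty.homMk q, (ObjectProperty.ι _).epi_of_epi_map hq, hx⟩

end Groth.CohDbEquiv
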